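import Cfsg.Agent.H523.QO.A1
import Cfsg.Agent.H6.QO.Frame

/-!
# S2491 / S2492: the rows of `H523.QO.A1` in the form `H6.QO.RowA` (helper523)
-/

set_option autoImplicit false

namespace Cfsg.Agent.H523.QO

open Cfsg
open Cfsg.Agent.H6.QO (RowA)

theorem rowA_alt {n : ℕ} (hn : 5 ≤ n) (h6 : n ≠ 6) (h7 : n ≠ 7) : RowA (alternatingGroup (Fin n)) :=
  ra_alt hn h6 h7

/-- all but `PSL_2(9)`, `PSL_3(4)` -/
theorem rowA_psl {F : Type} [Field F] [Fintype F] {n : ℕ} (hn : 2 ≤ n) (h4 : n = 2 → 4 ≤ Fintype.card F)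
    (h9 : ¬ (n = 2 ∧ Fintype.card F = 9)) (h34 : ¬ (n = 3 ∧ Fintype.card F = 4)) :
    RowA (Matrix.ProjectiveSpecialLinearGroup (Fin n) F) := ra_psl hn h4 h9 h34

/-- all but `PSp_6(2)` -/
theorem rowA_psp {F : Type} [Field F] [Fintype F] {m : ℕ} (hm : 2 ≤ m) (h3 : m = 2 → 3 ≤ Fintype.card F)
    (h62 : ¬ (m = 3 ∧ Fintype.card F = 2)) : RowA (PSp m F) := ra_psp hm h3 h62

/-- all but `PSU_4(3)`, `PSU_6(2)` -/
theorem rowA_psu {F : Type} [Field F] [Fintype F] {n q : ℕ} (hF : Fintype.card F = q ^ 2) (hn : 3 ≤ n)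
    (hex : ¬ (n = 3 ∧ q = 2)) (h43 : ¬ (n = 4 ∧ q = 3)) (h62 : ¬ (n = 6 ∧ q = 2)) : RowA (PSU n F q) :=
  ra_psu hF hn hex h43 h62

end Cfsg.Agent.H523.QO
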