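import Cfsg.Agent.H523.QO.Fr
import Cfsg.Agent.H134.Ore.Alt
import Cfsg.Agent.S2444
import Cfsg.Agent.S2445
import Cfsg.Agent.S2446
import Cfsg.Agent.S2493
import Cfsg.Agent.S0892
import Cfsg.Agent.S2086
import Cfsg.Agent.S2089
import Cfsg.Agent.S2092
import Cfsg.Agent.S0246
import Cfsg.Agent.S0252
import Cfsg.Agent.S0255
import Cfsg.Agent.S0256
import Cfsg.Agent.S0280
import Cfsg.Agent.S0822

/-!
# S2491 / S2492: the rows `Alt_n`, `PSL_n(q)`, `PSp_2m(q)`, `PSU_n(q)` (helper523)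
-/

set_option autoImplicit false

namespace Cfsg.Agent.H523.QO

open Cfsg
open Cfsg.Agent.H51.Mult (PCE)
open Cfsg.Agent.H777.Ore (AllC IsC)
open Cfsg.Agent.H80.Fpf (IsCover MultDvd multDvd_of multDvd_of_cyclic)

universe u v w

/-- **alternating groups** -/
theorem ra_alt {n : ℕ} (hn : 5 ≤ n) (h6 : n ≠ 6) (h7 : n ≠ 7) : RA (alternatingGroup (Fin n)) := by
  intro L _ _ π hπ
  have hker : Nat.card π.ker ≤ 2 := by
    refine S0892.result n (by omega) h6 h7 π.ker hπ.cen ?_ (QuotientGroup.quotientKerEquivOfSurjective π hπ.surj)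
    rw [hπ.perf]
    exact le_top
  have hpos : 0 < Nat.card π.ker := Nat.card_pos
  -- the kernel is the centre
  have hcK : Subgroup.center (alternatingGroup (Fin n)) = ⊥ := by
    have hs : IsSimpleGroup (alternatingGroup (Fin n)) := alternatingGroup.isSimpleGroup (α := Fin n) (by simpa using hn)
    rcases (inferInstance : (Subgroup.center (alternatingGroup (Fin n))).Normal).eq_bot_or_eq_top with h | h
    · exact h
    · exfalso
      have h1 : commutator (alternatingGroup (Fin n)) = ⊥ := by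
        rw [commutator_def, Subgroup.commutator_eq_bot_iff_le_centralizer]
        intro x _
        rw [Subgroup.mem_centralizer_iff]
        intro y _
        have h2 : x ∈ Subgroup.center (alternatingGroup (Fin n)) := by rw [h]; exact Subgroup.mem_top _
        exact Subgroup.mem_center_iff.1 h2 y
      rw [hπ.perf_base] at h1
      exact top_ne_bot h1
  have hc : Subgroup.center L = π.ker := by
    apply le_antisymm _ hπ.cen
    intro z hz
    rw [MonoidHom.mem_ker, ← Subgroup.mem_bot, ← hcK, Subgroup.mem_center_iff]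
    intro y
    obtain ⟨g, rfl⟩ := hπ.surj y
    rw [← map_mul, ← map_mul, Subgroup.mem_center_iff.1 hz g]
  have h12 : Nat.card π.ker = 1 ∨ Nat.card π.ker = 2 := by omega
  rcases h12 with h | h
  · have hb : π.ker = ⊥ := Subgroup.card_eq_one.1 h
    have he : L ≃* alternatingGroup (Fin n) :=
      MulEquiv.ofBijective π ⟨(MonoidHom.ker_eq_bot_iff π).1 hb, hπ.surj⟩
    exact AllC.congr he.symm (H134.Ore.ore_alt hn)
  · intro g
    have e : L ⧸ Subgroup.center L ≃* alternatingGroup (Fin n) :=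
      (QuotientGroup.quotientMulEquivOfEq hc).trans (QuotientGroup.quotientKerEquivOfSurjective π hπ.surj)
    obtain ⟨a, b, hab⟩ := S2493.result hπ.perf hn (by rw [hc]; exact h) e g
    exact ⟨a, b, hab.symm⟩

/-- **`PSL_n(q)`**, generic -/
theorem ra_psl_gen {F : Type} [Field F] [Fintype F] {n : ℕ} (hn : 2 ≤ n) (h4 : n = 2 → 4 ≤ Fintype.card F)
    (hex : (n, Fintype.card F) ∉ ({(2, 4), (2, 9), (3, 2), (3, 4), (4, 2)} : Set (ℕ × ℕ))) :
    RA (Matrix.ProjectiveSpecialLinearGroup (Fin n) F) := by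
  have hc := S0280.card_center_SL (K := F) (n := n) (by omega)
  refine RA.of_center (U := Matrix.SpecialLinearGroup (Fin n) F) (S2444.result n hn h4) ?_
  rw [hc]
  refine multDvd_of_cyclic ?_ (S2086.result rfl n hn h4 hex)
  exact (Nat.gcd_pos_of_pos_left _ (by omega)).ne'

/-- **`PSL_n(q)`**, all but `PSL_2(9)`, `PSL_3(4)` -/
theorem ra_psl {F : Type} [Field F] [Fintype F] {n : ℕ} (hn : 2 ≤ n) (h4 : n = 2 → 4 ≤ Fintype.card F)
    (h9 : ¬ (n = 2 ∧ Fintype.card F = 9)) (h34 : ¬ (n = 3 ∧ Fintype.card F = 4)) :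
    RA (Matrix.ProjectiveSpecialLinearGroup (Fin n) F) := by
  by_cases h24 : n = 2 ∧ Fintype.card F = 4
  · obtain ⟨rfl, h⟩ := h24
    obtain ⟨e⟩ := S0252.result h
    exact (ra_alt le_rfl (by norm_num) (by norm_num)).congr e.symm
  by_cases h32 : n = 3 ∧ Fintype.card F = 2
  · obtain ⟨rfl, h⟩ := h32
    haveI : Fact (Nat.Prime 7) := ⟨by norm_num⟩
    obtain ⟨e⟩ := S0255.result (F := ZMod 7) (K := F) (ZMod.card 7) h
    refine (ra_psl_gen le_rfl (fun _ => by rw [ZMod.card]; norm_num) ?_).congr e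
    rw [ZMod.card]
    simp
  by_cases h42 : n = 4 ∧ Fintype.card F = 2
  · obtain ⟨rfl, h⟩ := h42
    obtain ⟨e⟩ := S0256.result h
    exact (ra_alt (by norm_num) (by norm_num) (by norm_num)).congr e.symm
  refine ra_psl_gen hn h4 ?_
  simp only [Set.mem_insert_iff, Set.mem_singleton_iff, Prod.mk.injEq, not_or]
  exact ⟨h24, h9, h32, h34, h42⟩

/-- **`PSp_2m(q)`**, all but `PSp_6(2)` -/
theorem ra_psp {F : Type} [Field F] [Fintype F] {m : ℕ} (hm : 2 ≤ m) (h3 : m = 2 → 3 ≤ Fintype.card F)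
    (h62 : ¬ (m = 3 ∧ Fintype.card F = 2)) : RA (PSp m F) := by
  have hc := S0246.result (F := F) rfl m (by omega)
  refine RA.of_center (U := Matrix.symplecticGroup (Fin m) F) (S2445.result m (by omega) (fun h => by omega) h3) ?_
  rw [hc]
  refine multDvd_of_cyclic ?_ (S2092.result rfl m hm h3 h62)
  exact (Nat.gcd_pos_of_pos_left _ (by omega)).ne'

/-- **`PSU_n(q)`**, all but `PSU_4(3)`, `PSU_6(2)` -/
theorem ra_psu {F : Type} [Field F] [Fintype F] {n q : ℕ} (hF : Fintype.card F = q ^ 2) (hn : 3 ≤ n)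
    (hex : ¬ (n = 3 ∧ q = 2)) (h43 : ¬ (n = 4 ∧ q = 3)) (h62 : ¬ (n = 6 ∧ q = 2)) : RA (PSU n F q) := by
  by_cases h42 : n = 4 ∧ q = 2
  · obtain ⟨rfl, rfl⟩ := h42
    obtain ⟨e⟩ := S0822.result (F := F) (K := ZMod 3) (by rw [hF]; norm_num) (ZMod.card 3)
    refine (ra_psp le_rfl (fun _ => by rw [ZMod.card]) ?_).congr e.symm
    rw [ZMod.card]
    norm_num
  have hc := S0280.card_center hF n (by omega)
  refine RA.of_center (U := SU n F q) (S2446.result n q hn hF hex) ?_
  rw [hc]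
  refine multDvd_of_cyclic ?_ (S2089.result n q hF hn hex ?_)
  · exact (Nat.gcd_pos_of_pos_left _ (by omega)).ne'
  · simp only [Set.mem_insert_iff, Set.mem_singleton_iff, Prod.mk.injEq, not_or]
    exact ⟨h42, h43, h62⟩

end Cfsg.Agent.H523.QO
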